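import Groth.Agent.L01.Serre
import Groth.Agent.L04.SectionsFinite
import Groth.Agent.L06.NormalAscent
import Groth.Agent.L06.FlatFibre
import Groth.Agent.L07.QuasiRegular
import Groth.Agent.L03.RegImmFlat
import Groth.Agent.L22.DimFormula
import Groth.Prelude.Def_EGA4b
import Mathlib.RingTheory.Localization.Ideal
import Mathlib.RingTheory.Flat.Localization

/-!
# Depth of quotients by powers of an ideal generated by a regular sequence
-/

set_option autoImplicit false
set_option linter.style.haveILetI false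

universe u

open IsLocalRing

namespace Groth.L28.LefPow

variable {L : Type u} [CommRing L]

theorem isQuasiRegular_quotient {c : ℕ} {f : Fin c → L} (hf : CAlgX.IsQuasiRegular f) (a : L)
    (ha : ∀ x, a * x ∈ Ideal.span (Set.range f) → x ∈ Ideal.span (Set.range f)) :
    CAlgX.IsQuasiRegular (Ideal.Quotient.mk (Ideal.span {a}) ∘ f) := by
  classical
  set J := Ideal.span (Set.range f) with hJ
  let π := Ideal.Quotient.mk (Ideal.span {a})
  have hsp : Ideal.span (Set.range (π ∘ f)) = J.map π := by rw [Set.range_comp, hJ, Ideal.map_span]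
  intro n P hP hmem d
  obtain ⟨P₀, rfl⟩ := MvPolynomial.map_surjective π Ideal.Quotient.mk_surjective P
  let P₁ := MvPolynomial.homogeneousComponent n P₀
  have hP₁ : P₁.IsHomogeneous n := MvPolynomial.homogeneousComponent_isHomogeneous n P₀
  have he : MvPolynomial.map π P₁ = MvPolynomial.map π P₀ := by
    ext e
    rw [MvPolynomial.coeff_map, MvPolynomial.coeff_map, MvPolynomial.coeff_homogeneousComponent]
    split_ifs with h
    · rfl
    · rw [map_zero, ← MvPolynomial.coeff_map, hP.coeff_eq_zero h]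
  rw [← he] at hmem ⊢
  rw [hsp, ← Ideal.map_pow, ← MvPolynomial.map_eval, ← Ideal.mem_comap,
    Ideal.comap_map_of_surjective _ Ideal.Quotient.mk_surjective, ← RingHom.ker_eq_comap_bot,
    Ideal.mk_ker] at hmem
  obtain ⟨j, hj, y, hy, hjy⟩ := Submodule.mem_sup.1 hmem
  obtain ⟨z, rfl⟩ := Ideal.mem_span_singleton'.1 hy
  have hz : z ∈ J ^ n := by
    refine Groth.L07.QReg.mem_pow_of_mul_mem_pow hf ha n ?_
    rw [show a * z = MvPolynomial.eval f P₁ - j by rw [← hjy]; ring]
    exact sub_mem (Groth.L07.QReg.eval_mem_span_pow f hP₁) (Ideal.pow_le_pow_right n.le_succ hj)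
  obtain ⟨Q, hQ, rfl⟩ := Groth.L07.QReg.exists_homogeneous_of_mem_span_pow f n hz
  have hc := hf n (P₁ - MvPolynomial.C a * Q) (hP₁.sub (hQ.C_mul a)) (by
    rw [map_sub, MvPolynomial.eval_mul, MvPolynomial.eval_C, ← hjy]
    rwa [show j + MvPolynomial.eval f Q * a - a * MvPolynomial.eval f Q = j by ring]) d
  rw [MvPolynomial.coeff_map, hsp, show MvPolynomial.coeff d P₁ =
    MvPolynomial.coeff d (P₁ - MvPolynomial.C a * Q) + a * MvPolynomial.coeff d Q by
      rw [MvPolynomial.coeff_sub, MvPolynomial.coeff_C_mul]; ring,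
    map_add, map_mul, show π a = 0 from Ideal.Quotient.eq_zero_iff_mem.2 (Ideal.mem_span_singleton_self a),
    zero_mul, add_zero]
  exact Ideal.mem_map_of_mem π hc

/-- Depth at least two passes from `L ⧸ J` to `L ⧸ J ^ m` when `J` is generated by a quasi-regular
sequence. -/
theorem two_le_depth_quotient_pow [IsLocalRing L] {c : ℕ} {f : Fin c → L} (hf : CAlgX.IsQuasiRegular f)
    (J : Ideal L) (hJ : Ideal.span (Set.range f) = J) [IsLocalRing (L ⧸ J)]
    (h2 : 2 ≤ LocCoh.depth (L ⧸ J) (L ⧸ J)) (m : ℕ) [IsLocalRing (L ⧸ J ^ m)] :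
    2 ≤ LocCoh.depth (L ⧸ J ^ m) (L ⧸ J ^ m) := by
  subst hJ
  set J := Ideal.span (Set.range f) with hJ
  obtain ⟨a', ha', b', hb', h3, h4⟩ := Groth.L04.SectionsFinite.exists_pair _ h2
  obtain ⟨a, rfl⟩ := Ideal.Quotient.mk_surjective a'
  obtain ⟨b, rfl⟩ := Ideal.Quotient.mk_surjective b'
  have hmax : ∀ {I : Ideal L} [IsLocalRing (L ⧸ I)] (x : L),
      Ideal.Quotient.mk I x ∈ maximalIdeal (L ⧸ I) ↔ x ∈ maximalIdeal L := by
    intro I _ x
    haveI : IsLocalHom (Ideal.Quotient.mk I) := IsLocalHom.of_surjective _ Ideal.Quotient.mk_surjective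
    simp only [mem_maximalIdeal, mem_nonunits_iff, isUnit_map_iff]
  have haJ : ∀ x, a * x ∈ J → x ∈ J := fun x hx =>
    Ideal.Quotient.eq_zero_iff_mem.1 (h3 _ (by rw [← map_mul]; exact Ideal.Quotient.eq_zero_iff_mem.2 hx))
  refine Groth.L01.Serre.two_le_depth ((hmax a).2 ((hmax a).1 ha')) ((hmax b).2 ((hmax b).1 hb'))
    (fun x hx => ?_) fun x hx => ?_
  · obtain ⟨x, rfl⟩ := Ideal.Quotient.mk_surjective x
    rw [← map_mul, Ideal.Quotient.eq_zero_iff_mem] at hx
    exact Ideal.Quotient.eq_zero_iff_mem.2 (Groth.L07.QReg.mem_pow_of_mul_mem_pow hf haJ m hx)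
  · obtain ⟨x, rfl⟩ := Ideal.Quotient.mk_surjective x
    let π := Ideal.Quotient.mk (Ideal.span {a})
    have hsp : Ideal.span (Set.range (π ∘ f)) = J.map π := by rw [Set.range_comp, hJ, Ideal.map_span]
    have hmem : ∀ (I : Ideal L) (y : L), π y ∈ I.map π ↔ y ∈ I ⊔ Ideal.span {a} := fun I y => by
      rw [← Ideal.mem_comap, Ideal.comap_map_of_surjective _ Ideal.Quotient.mk_surjective,
        ← RingHom.ker_eq_comap_bot, Ideal.mk_ker]
    have hmem' : ∀ (I : Ideal L) (y : L),
        Ideal.Quotient.mk I y ∈ Ideal.span {Ideal.Quotient.mk I a} ↔ y ∈ I ⊔ Ideal.span {a} := fun I y => by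
      rw [show Ideal.span {Ideal.Quotient.mk I a} = (Ideal.span {a}).map (Ideal.Quotient.mk I) by
          rw [Ideal.map_span, Set.image_singleton],
        ← Ideal.mem_comap, Ideal.comap_map_of_surjective _ Ideal.Quotient.mk_surjective,
        ← RingHom.ker_eq_comap_bot, Ideal.mk_ker, sup_comm]
    rw [← map_mul, hmem', ← hmem, Ideal.map_pow, ← hsp, map_mul] at hx
    rw [hmem', ← hmem, Ideal.map_pow, ← hsp]
    refine Groth.L07.QReg.mem_pow_of_mul_mem_pow (isQuasiRegular_quotient hf a haJ) (fun y hy => ?_) m hx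
    obtain ⟨y, rfl⟩ := Ideal.Quotient.mk_surjective y
    rw [← map_mul, hsp, hmem, ← hmem'] at hy
    rw [hsp, hmem, ← hmem']
    exact h4 _ (by rwa [← map_mul])

/-- Localising a quotient ring at a prime. -/
theorem exists_localization_quotient_equiv {A : Type u} [CommRing A] (I : Ideal A) (q : Ideal A)
    [q.IsPrime] (x : Ideal (A ⧸ I)) [x.IsPrime] (hx : x.comap (Ideal.Quotient.mk I) = q) :
    Nonempty (Localization.AtPrime x ≃+*
      Localization.AtPrime q ⧸ I.map (algebraMap A (Localization.AtPrime q))) := by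
  have hM : Algebra.algebraMapSubmonoid (A ⧸ I) q.primeCompl = x.primeCompl := by
    ext y
    constructor
    · rintro ⟨a, ha, rfl⟩ hy
      exact ha (hx.le hy)
    · intro hy
      obtain ⟨a, rfl⟩ := Ideal.Quotient.mk_surjective y
      exact ⟨a, fun ha => hy (hx.ge ha), rfl⟩
  haveI : IsLocalization x.primeCompl
      (Localization.AtPrime q ⧸ I.map (algebraMap A (Localization.AtPrime q))) := hM ▸ inferInstance
  exact ⟨(IsLocalization.algEquiv x.primeCompl _ _).toRingEquiv⟩

variable {A : Type u} [CommRing A] [IsDomain A] [IsIntegrallyClosed A]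

/-- The non-regular locus of a normal Noetherian domain has height at least two. -/
theorem two_le_height_singular [IsNoetherianRing A] (J : Ideal A)
    (hJ : ∀ x : PrimeSpectrum A, J ≤ x.asIdeal ↔ x ∉ EGA4.regLocus A) : (2 : ℕ∞) ≤ J.height := by
  rw [Ideal.height_eq_inf_minimalPrimes]
  refine le_iInf₂ fun P hP => ?_
  haveI := hP.1.1
  by_contra! hlt
  refine (hJ ⟨P, inferInstance⟩).1 hP.1.2 ?_
  haveI : IsIntegrallyClosed (Localization.AtPrime P) :=
    isIntegrallyClosed_of_isLocalization _ P.primeCompl P.primeCompl_le_nonZeroDivisors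
  refine Groth.L06.NormalAscent.regular_of_normal_dim_le_one ?_
  rw [IsLocalization.AtPrime.ringKrullDim_eq_height P (Localization.AtPrime P)]
  exact WithBot.coe_le_coe.2 (Order.le_of_lt_succ hlt)

/-- The local rings of `A ⧸ p ^ m` at non-regular points of `V(p)` have depth at least two. -/
theorem two_le_depth_localization (hA : EGA4.IsExcellent A)
    (J : Ideal A) (hJ : ∀ x : PrimeSpectrum A, J ≤ x.asIdeal ↔ x ∉ EGA4.regLocus A)
    (p : Ideal A) [p.IsPrime] (rs : List A) (hrs : RingTheory.Sequence.IsWeaklyRegular A rs)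
    (hp : Ideal.ofList rs = p) (hnorm : IsIntegrallyClosed (A ⧸ p))
    (hht : p.height + J.height ≤ (p ⊔ J).height) (q : Ideal A) [q.IsPrime] (hpq : p ≤ q)
    (hJq : J ≤ q) (m : ℕ) (x : Ideal (A ⧸ p ^ m)) [x.IsPrime]
    (hx : x.comap (Ideal.Quotient.mk (p ^ m)) = q) :
    2 ≤ LocCoh.depth (Localization.AtPrime x) (Localization.AtPrime x) := by
  haveI := hA.1
  haveI := hnorm
  haveI : IsNoetherianRing (Localization.AtPrime q) :=
    IsLocalization.isNoetherianRing q.primeCompl _ inferInstance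
  let φ := algebraMap A (Localization.AtPrime q)
  haveI : (q.map (Ideal.Quotient.mk p)).IsPrime :=
    Ideal.map_isPrime_of_surjective Ideal.Quotient.mk_surjective (by rw [Ideal.mk_ker]; exact hpq)
  -- the local ring of `A ⧸ p`
  have hdepth : 2 ≤ LocCoh.depth (Localization.AtPrime (q.map (Ideal.Quotient.mk p)))
      (Localization.AtPrime (q.map (Ideal.Quotient.mk p))) := by
    haveI : IsIntegrallyClosed (Localization.AtPrime (q.map (Ideal.Quotient.mk p))) :=
      isIntegrallyClosed_of_isLocalization _ _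
        (q.map (Ideal.Quotient.mk p)).primeCompl_le_nonZeroDivisors
    haveI : IsNoetherianRing (Localization.AtPrime (q.map (Ideal.Quotient.mk p))) :=
      IsLocalization.isNoetherianRing (q.map (Ideal.Quotient.mk p)).primeCompl _ inferInstance
    refine Groth.L06.NormalAscent.two_le_depth_of_normal fun hdim => ?_
    rw [IsLocalization.AtPrime.ringKrullDim_eq_height (q.map (Ideal.Quotient.mk p))] at hdim
    have h1 := Groth.L22.DimFormula.height_map_mk_add_eq
      (hA.2.1.2 A inferInstance) hpq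
    have h2 : p.height + 2 ≤ q.height := ((add_le_add le_rfl (two_le_height_singular J hJ)).trans hht).trans
      (Ideal.height_mono (sup_le hpq hJq))
    rw [← h1, add_comm (q.map (Ideal.Quotient.mk p)).height] at h2
    have h3 := (ENat.add_le_add_iff_left (Ideal.height_ne_top (Ideal.IsPrime.ne_top ‹p.IsPrime›))).1 h2
    exact absurd (h3.trans (WithBot.coe_le_coe.1 hdim)) (by decide)
  obtain ⟨e₁⟩ := exists_localization_quotient_equiv p q (q.map (Ideal.Quotient.mk p))
    (Ideal.comap_map_mk hpq)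
  haveI := e₁.isLocalRing
  haveI : IsNoetherianRing (Localization.AtPrime (q.map (Ideal.Quotient.mk p))) :=
    IsLocalization.isNoetherianRing (q.map (Ideal.Quotient.mk p)).primeCompl _ inferInstance
  rw [← Groth.L06.FlatFibre.depth_eq_of_ringEquiv e₁] at hdepth
  obtain ⟨e₂⟩ := exists_localization_quotient_equiv (p ^ m) q x hx
  haveI := e₂.isLocalRing
  rw [← Groth.L06.FlatFibre.depth_eq_of_ringEquiv e₂]
  let e₃ := Ideal.quotEquivOfEq (Ideal.map_pow φ p m)
  haveI := e₃.isLocalRing
  rw [← Groth.L06.FlatFibre.depth_eq_of_ringEquiv e₃]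
  have hqr : CAlgX.IsQuasiRegular (φ ∘ rs.get) := by
    refine Groth.L03.RegImmFlat.isQuasiRegular_map φ ?_ (Groth.L07.QReg.isQuasiRegular_of_isWeaklyRegular ?_)
    · exact RingHom.flat_algebraMap_iff.mpr (IsLocalization.flat (Localization.AtPrime q) q.primeCompl)
    · rwa [List.ofFn_get]
  refine two_le_depth_quotient_pow hqr (p.map φ) ?_ hdepth m
  rw [Set.range_comp, ← Ideal.map_span, ← hp, Ideal.ofList, Set.range_list_get]

end Groth.L28.LefPow
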